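import Groth.Agent.L03.CurveCount.Cycle
import Groth.Agent.L03.HasseWeil.Setup
import Groth.Agent.L21.RR.GeomGenusZero
import Groth.Agent.L21.Duality.Special
import Groth.Agent.L11.Zeta.Series
import Groth.Agent.S7836
import Groth.Prelude.Def_PicGrp
import Mathlib.RingTheory.Int.Basic

/-!
# Counting effective cycles and classes on a curve over a finite field
-/

set_option autoImplicit false
set_option linter.style.haveILetI false
set_option linter.unusedSectionVars false
set_option backward.isDefEq.respectTransparency false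

universe u

open CategoryTheory CategoryTheory.Limits AlgebraicGeometry TopologicalSpace Opposite
open Groth.L21.RR (h)
open Groth.L00.Tensor (tensorAssoc tensorComm tensorIso tensorUnitLeft tensorUnitRight)

noncomputable section

namespace Groth.L03.CurveCount

attribute [local instance] Curv2.resAlgebra

/-- Cancellation of an invertible factor. -/
theorem nonempty_iso_of_tensor {X : Scheme.{u}} {A B I : X.Modules}
    (a : Nonempty (Coh.structureModule X ≅ CohB1.tensorMod A I))
    (b : Nonempty (Coh.structureModule X ≅ CohB1.tensorMod B I)) : Nonempty (A ≅ B) := by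
  obtain ⟨a⟩ := a
  obtain ⟨b⟩ := b
  exact ⟨(tensorUnitRight A).symm ≪≫ tensorIso (Iso.refl A) (b ≪≫ tensorComm B I) ≪≫ (tensorAssoc A I B).symm ≪≫
    tensorIso a.symm (Iso.refl B) ≪≫ tensorUnitLeft B⟩

/-- The classes of invertible modules of a given degree. -/
abbrev PicD (k : Type u) [Field k] (X : Scheme.{u}) [X.Over (Spec (CommRingCat.of k))] (d : ℤ) : Type (u + 1) :=
  {c : PicF.Cl X // ∃ L : X.Modules, PicF.cl L = c ∧ PicF.IsInvertible L ∧ Curv2.deg k X L 1 = d}

variable (k : Type u) [Field k] {X : Scheme.{u}} [X.Over (Spec (CommRingCat.of k))]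

/-- A module in a class. -/
def rep {d : ℤ} (c : PicD k X d) : X.Modules := c.2.choose

theorem rep_spec {d : ℤ} (c : PicD k X d) :
    PicF.cl (rep k c) = c.1 ∧ PicF.IsInvertible (rep k c) ∧ Curv2.deg k X (rep k c) 1 = d := c.2.choose_spec

/-- The class of a module. -/
def clD {d : ℤ} (L : X.Modules) (hL : PicF.IsInvertible L) (hd : Curv2.deg k X L 1 = d) : PicD k X d :=
  ⟨PicF.cl L, L, rfl, hL, hd⟩

theorem nonempty_rep_clD {d : ℤ} (L : X.Modules) (hL : PicF.IsInvertible L) (hd : Curv2.deg k X L 1 = d) :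
    Nonempty (rep k (clD k L hL hd) ≅ L) :=
  (PicGrp.cl_eq_cl_iff _ _).1 (rep_spec k (clD k L hL hd)).1

theorem eq_of_iso {d : ℤ} {c c' : PicD k X d} (e : Nonempty (rep k c ≅ rep k c')) : c = c' :=
  Subtype.ext ((rep_spec k c).1.symm.trans (((PicGrp.cl_eq_cl_iff _ _).2 e).trans (rep_spec k c').1))

variable [IsProper (X ↘ Spec (CommRingCat.of k))] [IsIntegral X]

/-- Morphisms from the structure sheaf are global sections. -/
theorem card_hom [Finite k] {L : X.Modules} (hL : PicF.IsInvertible L) :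
    Finite (Coh.structureModule X ⟶ L) ∧
      Nat.card (Coh.structureModule X ⟶ L) = Nat.card k ^ h k 0 L := by
  haveI := Groth.L21.RR.isNoetherian_of_proper (X := X) k
  haveI : Module.Finite k (Coh.HH X L 0) := Groth.L21.RR.finite_HH' k (Groth.L16.ProperFinite.isCoh_of_isInvertible hL) 0
  let f : (Coh.structureModule X ⟶ L) → Coh.HH X L 0 := fun φ =>
    (Groth.L21.RR.e0 L).symm (φ.app ⊤ (Groth.L21.RR.oneSec X))
  have hf : Function.Bijective f := by
    refine ⟨fun φ ψ hh => ?_, fun x => ?_⟩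
    · have h1 : φ.app ⊤ (Groth.L21.RR.oneSec X) = ψ.app ⊤ (Groth.L21.RR.oneSec X) :=
        (Groth.L21.RR.e0 L).symm.injective hh
      refine sub_eq_zero.1 (Groth.L21.RR.eq_zero_of_st_one (φ - ψ) fun x => ?_)
      have hsub : Groth.L21.RR.st (φ - ψ) x (Groth.L21.RR.one X x) =
          Groth.L21.RR.st φ x (Groth.L21.RR.one X x) - Groth.L21.RR.st ψ x (Groth.L21.RR.one X x) := by
        rw [Groth.L21.RR.st, Groth.L21.RR.st, Groth.L21.RR.st, Functor.map_sub]
        rfl
      rw [hsub, Groth.L21.RR.st_one φ x (W := ⊤) trivial, Groth.L21.RR.st_one ψ x (W := ⊤) trivial, h1, sub_self]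
    · obtain ⟨φ, hφ⟩ := Groth.L21.RR.exists_hom_of_hh0 x
      exact ⟨φ, by show (Groth.L21.RR.e0 L).symm _ = _; rw [hφ, AddEquiv.symm_apply_apply]⟩
  haveI : Finite (Coh.HH X L 0) := Module.finite_of_finite k
  exact ⟨Finite.of_injective f hf.1,
    (Nat.card_congr (Equiv.ofBijective f hf)).trans (Module.natCard_eq_pow_finrank (K := k))⟩

include k in
/-- A non-zero endomorphism of the structure sheaf is an isomorphism. -/
theorem isIso_endo (hd : topologicalKrullDim X = 1) {e : Coh.structureModule X ⟶ Coh.structureModule X}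
    (he : e ≠ 0) : IsIso e := by
  haveI := Groth.L21.RR.isNoetherian_of_proper (X := X) k
  have hO := Groth.L18.Ample.isInvertible_structureModule X
  haveI := Groth.L21.RR.mono_of_ne_zero hO he
  have hQ := Groth.L21.RR.suppClosed_cokernel hd.le hO he
  haveI := Groth.L21.RR.finite_HH' k (Groth.L16.CohKernel.isCoh_kernel_cokernel
    Groth.L16.CohClosedPush.isCoh_structure (Groth.L16.ProperFinite.isCoh_of_isInvertible hO) e).2 0
  have h0 : h k 0 (cokernel e) = 0 := by
    have h1 := Groth.L21.RR.deg_eq_h0_cokernel k hd.le hO he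
    rw [Curv2.deg] at h1
    push_cast at h1
    omega
  haveI : Subsingleton (Coh.HH X (cokernel e) 0) := Module.finrank_zero_iff.1 h0
  haveI : Epi e := by
    refine Abelian.epi_of_cokernel_π_eq_zero e (Groth.L21.Mod.hom_ext_stalk fun x => ?_)
    ext v
    obtain ⟨s, hs, -⟩ := Groth.L21.RR.exists_section_germ hQ x (Groth.L21.RR.st (cokernel.π e) x v)
    have hs0 : s = 0 := (Groth.L21.RR.e0 (cokernel e)).symm.injective (Subsingleton.elim _ _)
    rw [hs0, map_zero] at hs
    show Groth.L21.RR.st (cokernel.π e) x v = Groth.L21.RR.st (0 : _ ⟶ cokernel e) x v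
    rw [← hs, Groth.L21.RR.st, Functor.map_zero]
    rfl
  exact isIso_of_mono_of_epi e

variable (X) in
/-- The number of effective cycles of a given degree. -/
def effCount (d : ℕ) : ℕ := Nat.card {α : Pt X →₀ ℕ // cdeg k α = d}

section Finite

variable [Finite k] [Smooth (X ↘ Spec (CommRingCat.of k))]

theorem finite_eff (d : ℕ) : Finite {α : Pt X →₀ ℕ // cdeg k α = d} := by
  classical
  haveI : CompactSpace X := QuasiCompact.compactSpace_of_compactSpace (X ↘ Spec (CommRingCat.of k))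
  have hfd : ∀ z : Pt X, 0 < Module.finrank k (X.residueField z.1) := fun z => by
    haveI := Groth.L21.Disc.finite_residueField_of_isClosed k z.2
    exact Module.finrank_pos
  have hsfin : {z : Pt X | Module.finrank k (X.residueField z.1) ≤ d}.Finite := by
    have : {z : Pt X | Module.finrank k (X.residueField z.1) ≤ d} ⊆ ⋃ e ∈ Set.Icc 1 d,
        {z : Pt X | Module.finrank k (X.residueField z.1) = e} := fun z hz =>
      Set.mem_biUnion (show Module.finrank k (X.residueField z.1) ∈ Set.Icc 1 d from ⟨hfd z, hz⟩) rfl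
    refine ((Set.finite_Icc 1 d).biUnion fun e he => ?_).subset this
    refine Set.Finite.of_finite_image ?_ (f := fun z : Pt X => z.1) Subtype.val_injective.injOn
    refine (Set.finite_coe_iff.1 (Groth.L11.ZetaSeries.finite_closed_degree (X ↘ Spec (CommRingCat.of k)) (e := e) he.1) :
      ({x : X | IsClosed ({x} : Set X) ∧ EGA4loc.residueDegree (X ↘ Spec (CommRingCat.of k)) x = e}).Finite).subset ?_
    rintro _ ⟨z, hz, rfl⟩
    exact ⟨z.2, (Groth.L11.Points.residueDegree_eq z.1).trans hz⟩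
  have hS : ∀ α : {α : Pt X →₀ ℕ // cdeg k α = d}, α.1.support ⊆ hsfin.toFinset ∧ ∀ z, α.1 z ≤ d := by
    intro α
    have hz : ∀ z, α.1 z * Module.finrank k (X.residueField z.1) ≤ d := fun z => by
      by_cases h : z ∈ α.1.support
      · refine le_of_le_of_eq ?_ α.2
        exact Finset.single_le_sum (f := fun z => α.1 z * Module.finrank k (X.residueField z.1))
          (fun _ _ => Nat.zero_le _) h
      · rw [Finsupp.notMem_support_iff.1 h, zero_mul]; exact Nat.zero_le _
    refine ⟨fun z h => hsfin.mem_toFinset.2 ?_, fun z => le_trans (Nat.le_mul_of_pos_right _ (hfd z)) (hz z)⟩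
    exact le_trans (Nat.le_mul_of_pos_left _ (Nat.pos_of_ne_zero (Finsupp.mem_support_iff.1 h))) (hz z)
  haveI : Finite {z // z ∈ hsfin.toFinset} := inferInstance
  refine Finite.of_injective (fun α => fun z : {z // z ∈ hsfin.toFinset} =>
    (⟨α.1 z.1, Nat.lt_succ_of_le ((hS α).2 z.1)⟩ : Fin (d + 1))) fun α β hh => Subtype.ext (Finsupp.ext fun z => ?_)
  by_cases h : z ∈ hsfin.toFinset
  · exact congrArg Fin.val (congrFun hh ⟨z, h⟩)
  · rw [Finsupp.notMem_support_iff.1 fun h' => h ((hS α).1 h'),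
      Finsupp.notMem_support_iff.1 fun h' => h ((hS β).1 h')]

variable [GeometricallyIrreducible (X ↘ Spec (CommRingCat.of k))] (hd : topologicalKrullDim X = 1)

include hd

theorem h0_structure : h k 0 (Coh.structureModule X) = 1 := by
  haveI := HasseWeil.geometricallyIntegral_of_smooth (X ↘ Spec (CommRingCat.of k))
  exact Groth.L21.RR.h0_eq_one_of_geometricallyIntegral k hd

theorem exists_deg (n : ℤ) : ∃ L : X.Modules, PicF.IsInvertible L ∧ Curv2.deg k X L 1 = n := by
  haveI := Groth.L21.RR.isNoetherian_of_proper (X := X) k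
  have hadd := fun {A B : X.Modules} (hA : PicF.IsInvertible A) (hB : PicF.IsInvertible B) =>
    Groth.L21.Duality.deg_tensor (k := k) hd hA hB
  have hzero : Curv2.deg k X (Coh.structureModule X) 1 = 0 := by rw [Curv2.deg]; push_cast; ring
  let S : AddSubgroup ℤ :=
    { carrier := {n | ∃ L : X.Modules, PicF.IsInvertible L ∧ Curv2.deg k X L 1 = n}
      zero_mem' := ⟨_, Groth.L18.Ample.isInvertible_structureModule X, hzero⟩
      add_mem' := fun ⟨A, hA, hA'⟩ ⟨B, hB, hB'⟩ =>
        ⟨_, Groth.L18.GenLoc.isInvertible_tensor hA hB, by rw [hadd hA hB, hA', hB']⟩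
      neg_mem' := fun ⟨A, hA, hA'⟩ => by
        obtain ⟨B, hB, ⟨e⟩⟩ := Groth.L08.Cube.exists_inverse hA
        refine ⟨B, hB, ?_⟩
        have h1 := Groth.L21.Duality.deg_congr (k := k) e
        rw [hadd hA hB, hA', hzero] at h1
        omega }
  show n ∈ S
  obtain ⟨x, y, hx, hy, hco⟩ := Groth.Agent.S7836.result k X ⟨inferInstance, inferInstance, inferInstance, hd⟩
  have hpt : ∀ {z : X} (hz : IsClosed ({z} : Set X)), (Module.finrank k (X.residueField z) : ℤ) ∈ S := fun hz => by
    obtain ⟨hI, hId⟩ := Groth.L21.Duality.deg_ptI (k := k) hd hz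
    have := S.neg_mem (show -(Module.finrank k (X.residueField _) : ℤ) ∈ S from ⟨_, hI, hId⟩)
    rwa [neg_neg] at this
  obtain ⟨a, b, hab⟩ : ∃ a b : ℤ, a * (Module.finrank k (X.residueField x) : ℤ) +
      b * (Module.finrank k (X.residueField y) : ℤ) = 1 := Int.isCoprime_iff_gcd_eq_one.2 (by
        rw [Int.gcd_natCast_natCast]; exact hco)
  have h1 : (1 : ℤ) ∈ S := by
    rw [← hab]
    exact S.add_mem (by simpa using S.zsmul_mem (hpt hx) a) (by simpa using S.zsmul_mem (hpt hy) b)
  simpa using S.zsmul_mem h1 n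

theorem nonempty_picD (d : ℤ) : Nonempty (PicD k X d) := by
  obtain ⟨L, hL, hLd⟩ := exists_deg k hd d
  exact ⟨clD k L hL hLd⟩

theorem exists_equiv_picD (d e : ℤ) : Nonempty (PicD k X d ≃ PicD k X e) := by
  haveI := Groth.L21.RR.isNoetherian_of_proper (X := X) k
  obtain ⟨D, hD, hDd⟩ := exists_deg k hd (e - d)
  obtain ⟨D', hD', ⟨i⟩⟩ := Groth.L08.Cube.exists_inverse hD
  refine ⟨Equiv.ofBijective (fun c => clD k (CohB1.tensorMod (rep k c) D)
    (Groth.L18.GenLoc.isInvertible_tensor (rep_spec k c).2.1 hD)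
    (by rw [Groth.L21.Duality.deg_tensor (k := k) hd (rep_spec k c).2.1 hD, (rep_spec k c).2.2, hDd]; ring))
    ⟨fun c c' hh => eq_of_iso k ?_, fun c => ?_⟩⟩
  · obtain ⟨θ⟩ := (PicGrp.cl_eq_cl_iff _ _).1 (congrArg Subtype.val hh)
    exact ⟨(tensorUnitRight _).symm ≪≫ tensorIso (Iso.refl _) i.symm ≪≫ (tensorAssoc _ _ _).symm ≪≫
      tensorIso θ (Iso.refl _) ≪≫ tensorAssoc _ _ _ ≪≫ tensorIso (Iso.refl _) i ≪≫ tensorUnitRight _⟩
  · have hL := Groth.L18.GenLoc.isInvertible_tensor (rep_spec k c).2.1 hD'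
    have hD'd : Curv2.deg k X D' 1 = d - e := by
      have h1 := Groth.L21.Duality.deg_congr (k := k) i
      have hzero : Curv2.deg k X (Coh.structureModule X) 1 = 0 := by rw [Curv2.deg]; push_cast; ring
      rw [Groth.L21.Duality.deg_tensor (k := k) hd hD hD', hDd, hzero] at h1
      omega
    refine ⟨clD k (CohB1.tensorMod (rep k c) D') hL (by
      rw [Groth.L21.Duality.deg_tensor (k := k) hd (rep_spec k c).2.1 hD', (rep_spec k c).2.2, hD'd]; ring), ?_⟩
    obtain ⟨θ⟩ := nonempty_rep_clD k (d := d) (CohB1.tensorMod (rep k c) D') hL (by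
      rw [Groth.L21.Duality.deg_tensor (k := k) hd (rep_spec k c).2.1 hD', (rep_spec k c).2.2, hD'd]; ring)
    refine Subtype.ext (((PicGrp.cl_eq_cl_iff _ _).2 ⟨?_⟩).trans (rep_spec k c).1)
    exact tensorIso θ (Iso.refl D) ≪≫ tensorAssoc _ _ _ ≪≫
      tensorIso (Iso.refl _) (tensorComm D' D ≪≫ i) ≪≫ tensorUnitRight _

/-- The classes of a given degree are finite in number. -/
theorem finite_picD (d : ℤ) : Finite (PicD k X d) := by
  haveI := Groth.L21.RR.isNoetherian_of_proper (X := X) k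
  let g := Curv2.genus k X
  obtain ⟨θ⟩ := exists_equiv_picD k hd d (g : ℤ)
  refine (Equiv.finite_iff θ).2 ?_
  haveI := finite_eff k (X := X) g
  have hsec : ∀ c : PicD k X (g : ℤ), ∃ α : {α : Pt X →₀ ℕ // cdeg k α = g},
      Nonempty (Coh.structureModule X ≅ CohB1.tensorMod (rep k c) (ClSub.idealMod (cycI α.1))) := by
    intro c
    obtain ⟨-, hL, hLd⟩ := rep_spec k c
    have hr := Groth.L21.Duality.rr_deg (k := k) hd.le (h0_structure k hd) (rep k c)
    haveI := Groth.L21.Duality.nontrivial_of_h0_pos (k := k) (L := rep k c) (by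
      rw [hLd] at hr; simp only [g] at hr; omega)
    obtain ⟨φ, hφ⟩ := Groth.L21.RR.exists_hom_ne_zero (L := rep k c)
    obtain ⟨α, hα⟩ := exists_has k hd hL hφ
    exact ⟨⟨α, by exact_mod_cast (cdeg_eq_of_has hd hL hφ hα).trans hLd⟩, nonempty_iso_of_has k hd hL hφ hα⟩
  choose A hA using hsec
  refine Finite.of_injective A fun c c' hh => eq_of_iso k ?_
  exact nonempty_iso_of_tensor (hA c) (hh ▸ hA c')

theorem card_picD_eq (d e : ℤ) : Nat.card (PicD k X d) = Nat.card (PicD k X e) :=
  Nat.card_congr (exists_equiv_picD k hd d e).some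

/-- Effective cycles with a scalar are classes with a non-zero section. -/
theorem card_sigma_hom (d : ℕ) :
    Nat.card (Σ c : PicD k X (d : ℤ), {φ : Coh.structureModule X ⟶ rep k c // φ ≠ 0}) =
      effCount k X d * (Nat.card k - 1) := by
  classical
  haveI := Groth.L21.RR.isNoetherian_of_proper (X := X) k
  obtain ⟨hfE, hcE⟩ := card_hom k (Groth.L18.Ample.isInvertible_structureModule X)
  rw [h0_structure k hd, pow_one] at hcE
  haveI := hfE
  have hnz : Nat.card {e : Coh.structureModule X ⟶ Coh.structureModule X // e ≠ 0} = Nat.card k - 1 := by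
    haveI := Fintype.ofFinite (Coh.structureModule X ⟶ Coh.structureModule X)
    rw [Nat.card_eq_fintype_card, Fintype.card_subtype_compl, Fintype.card_subtype_eq, ← hcE,
      Nat.card_eq_fintype_card]
  rw [effCount, ← hnz, ← Nat.card_prod]
  symm
  have hsec := fun α : {α : Pt X →₀ ℕ // cdeg k α = d} => exists_section k hd α.1
  choose L σ hL hσ hHas using hsec
  have hdeg : ∀ α, Curv2.deg k X (L α) 1 = (d : ℤ) := fun α => by
    rw [← cdeg_eq_of_has hd (hL α) (hσ α) (hHas α), α.2]
  let θ := fun α => (nonempty_rep_clD k (L α) (hL α) (hdeg α)).some.symm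
  have hmono : ∀ α, Mono (σ α ≫ (θ α).hom) := fun α => by
    haveI := Groth.L21.RR.mono_of_ne_zero (hL α) (hσ α)
    exact mono_comp _ _
  let G : {α : Pt X →₀ ℕ // cdeg k α = d} × {e : Coh.structureModule X ⟶ Coh.structureModule X // e ≠ 0} →
      Σ c : PicD k X (d : ℤ), {φ : Coh.structureModule X ⟶ rep k c // φ ≠ 0} := fun z =>
    ⟨clD k (L z.1) (hL z.1) (hdeg z.1), z.2.1 ≫ σ z.1 ≫ (θ z.1).hom, fun h0 => by
      haveI := hmono z.1
      exact z.2.2 ((cancel_mono (σ z.1 ≫ (θ z.1).hom)).1 (h0.trans Limits.zero_comp.symm))⟩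
  have hG : ∀ z, Has (G z).2.1 z.1.1 := fun z => by
    haveI := isIso_endo k hd z.2.2
    exact ((hHas z.1).comp_iso (θ z.1)).iso_comp z.2.1
  refine Nat.card_congr (Equiv.ofBijective G ⟨?_, ?_⟩)
  · rintro ⟨α, e⟩ ⟨α', e'⟩ hh
    obtain rfl : α = α' := Subtype.ext (Has.unique k hd (rep_spec k _).2.1 (hG (α, e)) (by
      rw [hh]; exact hG (α', e')))
    haveI := hmono α
    refine Prod.ext rfl (Subtype.ext ((cancel_mono (σ α ≫ (θ α).hom)).1 ?_))
    exact congrArg Subtype.val (eq_of_heq (Sigma.mk.inj_iff.1 hh).2)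
  · rintro ⟨c, φ, hφ⟩
    obtain ⟨-, hcL, hcd⟩ := rep_spec k c
    obtain ⟨α, hα⟩ := exists_has k hd hcL hφ
    have hαd : cdeg k α = d := by exact_mod_cast (cdeg_eq_of_has hd hcL hφ hα).trans hcd
    obtain ⟨i⟩ := nonempty_iso_of_tensor (nonempty_iso_of_has k hd (hL ⟨α, hαd⟩) (hσ _) (hHas _))
      (nonempty_iso_of_has k hd hcL hφ hα)
    obtain rfl : clD k (L ⟨α, hαd⟩) (hL _) (hdeg _) = c :=
      Subtype.ext (((PicGrp.cl_eq_cl_iff _ _).2 ⟨i⟩).trans (rep_spec k c).1)
    haveI := hmono ⟨α, hαd⟩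
    haveI := Groth.L21.RR.mono_of_ne_zero hcL hφ
    obtain ⟨e, he⟩ := exists_iso_of_range_eq φ (σ ⟨α, hαd⟩ ≫ (θ ⟨α, hαd⟩).hom)
      fun x => (hα x).trans (((hHas ⟨α, hαd⟩).comp_iso (θ _)) x).symm
    refine ⟨(⟨α, hαd⟩, ⟨e.hom, fun h0 => hφ (by rw [← he, h0, Limits.zero_comp])⟩), ?_⟩
    exact Sigma.ext rfl (heq_of_eq (Subtype.ext he))

end Finite

end Groth.L03.CurveCount
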