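import Groth.Prelude.Def_Pic
import Groth.Agent.L21.RR.IdealTwist
import Groth.Agent.L21.RR.Mul
import Groth.Agent.L21.RR.PointPow
import Groth.Agent.L21.RR.Equality
import Groth.Agent.L21.Duality.Canonical
import Groth.Agent.L21.Duality.EllipticPic
import Groth.Agent.L03.BlowPt.OffExc
import Groth.Agent.L19.IdealInvertible

/-!
# Sections of invertible modules on a smooth curve and effective cycles
-/

set_option autoImplicit false
set_option linter.style.haveILetI false
set_option linter.unusedSectionVars false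
set_option backward.isDefEq.respectTransparency false

universe u

open CategoryTheory CategoryTheory.Limits AlgebraicGeometry TopologicalSpace Opposite IsLocalRing
open Groth.L21.RR (st one h)

noncomputable section

namespace Groth.L03.CurveCount

variable {X : Scheme.{u}}

theorem st_id (M : X.Modules) (x : X) (v : M.presheaf.stalk x) : st (𝟙 M) x v = v :=
  congrArg (fun g => (ModuleCat.Hom.hom g) v) (CategoryTheory.Functor.map_id (Groth.L00.Stk.F X x) M)

/-- A morphism whose stalk images lie in those of a monomorphism factors through it. -/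
theorem exists_fac {A B M : X.Modules} (f : A ⟶ M) (g : B ⟶ M) [Mono g]
    (hle : ∀ x, LinearMap.range (st f x) ≤ LinearMap.range (st g x)) : ∃ θ : A ⟶ B, θ ≫ g = f := by
  have h0 : f ≫ cokernel.π g = 0 := Groth.L21.Mod.hom_ext_stalk fun x => by
    ext v
    obtain ⟨w, hw⟩ := LinearMap.mem_range.1 (hle x ⟨v, rfl⟩)
    show st (f ≫ cokernel.π g) x v = st (0 : A ⟶ cokernel g) x v
    rw [Groth.L21.RR.st_comp, ← hw, ← Groth.L21.RR.st_comp, cokernel.condition, st, st, Functor.map_zero,
      Functor.map_zero]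
    rfl
  exact ⟨Abelian.monoLift g f h0, Abelian.monoLift_comp g f h0⟩

/-- Monomorphisms with the same stalk images differ by an isomorphism. -/
theorem exists_iso_of_range_eq {A B M : X.Modules} (f : A ⟶ M) (g : B ⟶ M) [Mono f] [Mono g]
    (he : ∀ x, LinearMap.range (st f x) = LinearMap.range (st g x)) : ∃ θ : A ≅ B, θ.hom ≫ g = f := by
  obtain ⟨θ, hθ⟩ := exists_fac f g fun x => (he x).le
  obtain ⟨ψ, hψ⟩ := exists_fac g f fun x => (he x).ge
  exact ⟨⟨θ, ψ, by rw [← cancel_mono f, Category.assoc, hψ, hθ, Category.id_comp],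
    by rw [← cancel_mono g, Category.assoc, hθ, hψ, Category.id_comp]⟩, hθ⟩

variable (X) in
/-- The closed points. -/
abbrev Pt : Type u := {x : X // IsClosed ({x} : Set X)}

open scoped Classical in
/-- The multiplicity of a cycle at a point, zero at the points which are not closed. -/
def expo (α : Pt X →₀ ℕ) (x : X) : ℕ := if hx : IsClosed ({x} : Set X) then α ⟨x, hx⟩ else 0

theorem expo_add (α β : Pt X →₀ ℕ) (x : X) : expo (α + β) x = expo α x + expo β x := by
  unfold expo
  split_ifs <;> simp

theorem expo_apply (α : Pt X →₀ ℕ) (z : Pt X) : expo α z.1 = α z := dif_pos z.2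

/-- The ideal of an effective cycle. -/
def cycI (α : Pt X →₀ ℕ) : X.IdealSheafData :=
  α.prod fun z n => Scheme.IdealSheafData.vanishingIdeal ⟨{z.1}, z.2⟩ ^ n

/-- The ideal has the prescribed stalks. -/
def HasStalks (I : X.IdealSheafData) (e : X → ℕ) : Prop :=
  ∀ (x : X) (V : X.Opens) (hV : IsAffineOpen V) (hxV : x ∈ V),
    (I.ideal ⟨V, hV⟩).map (X.presheaf.germ V x hxV).hom = maximalIdeal (X.presheaf.stalk x) ^ e x

theorem hasStalks_cycI (α : Pt X →₀ ℕ) : HasStalks (cycI α) (expo α) := by
  classical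
  induction α using Finsupp.induction with
  | zero =>
    intro x V hV hxV
    rw [show cycI (0 : Pt X →₀ ℕ) = ⊤ from Finsupp.prod_zero_index, Scheme.IdealSheafData.ideal_top,
      Pi.top_apply, Ideal.map_top, show expo (0 : Pt X →₀ ℕ) x = 0 by unfold expo; split_ifs <;> simp,
      pow_zero, Ideal.one_eq_top]
  | single_add z n β _ _ ih =>
    intro x V hV hxV
    have hmul : cycI (Finsupp.single z n + β) =
        Scheme.IdealSheafData.vanishingIdeal ⟨{z.1}, z.2⟩ ^ n * cycI β := by
      unfold cycI
      rw [Finsupp.prod_add_index' (fun _ => pow_zero _) (fun _ _ _ => pow_add _ _ _)]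
      congr 1
      exact Finsupp.prod_single_index (pow_zero _)
    rw [hmul, Scheme.IdealSheafData.ideal_mul, Pi.mul_apply, Ideal.map_mul, ih x V hV hxV, expo_add, pow_add]
    congr 1
    by_cases hx : x = z.1
    · subst hx
      rw [Groth.L21.RR.map_vanishingIdeal_point_pow z.2 n hV hxV, expo_apply, Finsupp.single_eq_same]
    · have he : expo (Finsupp.single z n) x = 0 := by
        unfold expo
        split_ifs with hc
        · exact Finsupp.single_eq_of_ne (fun h => hx (congrArg Subtype.val h))
        · rfl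
      rw [he, pow_zero, Ideal.one_eq_top, Ideal.eq_top_iff_one]
      obtain ⟨r, hr, hr1⟩ := (Groth.L21.RR.range_st_idealModι _ hV hxV _).1
        (Groth.L21.RR.surjective_st_idealModι_pow_of_ne z.2 n hx (one X x))
      rwa [(Groth.L21.RR.bijective_smul_one x).1 (hr1.trans (one_smul _ _).symm)] at hr

/-- The stalk image of the inclusion of the ideal twisted by a module. -/
theorem range_twι {L : X.Modules} (hL : PicF.IsInvertible L) (α : Pt X →₀ ℕ) (x : X) :
    LinearMap.range (st (Groth.L21.RR.twι L (cycI α)) x) =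
      maximalIdeal (X.presheaf.stalk x) ^ expo α x • (⊤ : Submodule (X.presheaf.stalk x) (L.presheaf.stalk x)) := by
  obtain ⟨e, he⟩ := Groth.L21.RR.exists_frame_stalk hL x
  obtain ⟨V, hV, hxV, -⟩ := exists_isAffineOpen_mem_and_subset (x := x) (U := ⊤) trivial
  set m := maximalIdeal (X.presheaf.stalk x) ^ expo α x
  have hι : LinearMap.range (st (ClSub.idealModι (cycI α)) x) =
      m • (⊤ : Submodule (X.presheaf.stalk x) ((Coh.structureModule X).presheaf.stalk x)) := by
    refine le_antisymm (fun v hv => ?_) (Submodule.smul_le.2 fun r hr v _ => ?_)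
    · obtain ⟨r, hr, rfl⟩ := (Groth.L21.RR.range_st_idealModι _ hV hxV _).1 (LinearMap.mem_range.1 hv)
      rw [hasStalks_cycI α x V hV hxV] at hr
      exact Submodule.smul_mem_smul hr trivial
    · obtain ⟨c, rfl⟩ := (Groth.L21.RR.bijective_smul_one x).2 v
      refine LinearMap.mem_range.2 ((Groth.L21.RR.range_st_idealModι _ hV hxV _).2 ⟨r * c, ?_, mul_smul _ _ _⟩)
      rw [hasStalks_cycI α x V hV hxV]
      exact Ideal.mul_mem_right c _ hr
  let τI := Groth.L21.RR.tensorStalkEquiv (L := L) (ClSub.idealMod (cycI α)) he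
  let τO := Groth.L21.RR.tensorStalkEquiv (L := L) (Coh.structureModule X) he
  set g := ((DCoh.tensorBi (X := X)).obj L).map (ClSub.idealModι (cycI α))
  set u := (Groth.L00.Tensor.tensorUnitRight L).hom
  have hg : LinearMap.range (st g x) = m • ⊤ := by
    refine Submodule.map_injective_of_injective (f := τO.toLinearMap) τO.injective ?_
    rw [Submodule.map_smul'', Submodule.map_top, LinearMap.range_eq_top.2 τO.surjective, ← hι]
    refine le_antisymm ?_ ?_
    · rintro _ ⟨_, ⟨v, rfl⟩, rfl⟩
      exact ⟨τI v, (Groth.L21.RR.tensorStalkEquiv_natural _ he v).symm⟩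
    · rintro _ ⟨w, rfl⟩
      refine ⟨st g x (τI.symm w), ⟨_, rfl⟩, ?_⟩
      exact (Groth.L21.RR.tensorStalkEquiv_natural _ he _).trans (congrArg _ (τI.apply_symm_apply w))
  have hu : Function.Surjective (st u x) := fun v =>
    ⟨st (Groth.L00.Tensor.tensorUnitRight L).inv x v, by
      rw [← Groth.L21.RR.st_comp, Iso.inv_hom_id, st_id]⟩
  show LinearMap.range (st (g ≫ u) x) = _
  rw [show st (g ≫ u) x = (st u x).comp (st g x) from LinearMap.ext (Groth.L21.RR.st_comp g u x),
    LinearMap.range_comp, hg, Submodule.map_smul'', Submodule.map_top, LinearMap.range_eq_top.2 hu]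

/-- A section has the prescribed orders of vanishing. -/
def Has {L : X.Modules} (φ : Coh.structureModule X ⟶ L) (α : Pt X →₀ ℕ) : Prop :=
  ∀ x, LinearMap.range (st φ x) =
    maximalIdeal (X.presheaf.stalk x) ^ expo α x • (⊤ : Submodule (X.presheaf.stalk x) (L.presheaf.stalk x))

theorem Has.comp_iso {L L' : X.Modules} {φ : Coh.structureModule X ⟶ L} {α : Pt X →₀ ℕ} (hφ : Has φ α)
    (θ : L ≅ L') : Has (φ ≫ θ.hom) α := fun x => by
  have hs : Function.Surjective (st θ.hom x) := fun v => ⟨st θ.inv x v, by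
    rw [← Groth.L21.RR.st_comp, Iso.inv_hom_id, st_id]⟩
  rw [show st (φ ≫ θ.hom) x = (st θ.hom x).comp (st φ x) from LinearMap.ext (Groth.L21.RR.st_comp φ θ.hom x),
    LinearMap.range_comp, hφ x, Submodule.map_smul'', Submodule.map_top, LinearMap.range_eq_top.2 hs]

theorem Has.iso_comp {L : X.Modules} {φ : Coh.structureModule X ⟶ L} {α : Pt X →₀ ℕ} (hφ : Has φ α)
    (e : Coh.structureModule X ⟶ Coh.structureModule X) [IsIso e] : Has (e ≫ φ) α := fun x => by
  have hs : Function.Surjective (st e x) := fun v => ⟨st (inv e) x v, by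
    rw [← Groth.L21.RR.st_comp, IsIso.inv_hom_id, st_id]⟩
  rw [show st (e ≫ φ) x = (st φ x).comp (st e x) from LinearMap.ext (Groth.L21.RR.st_comp e φ x),
    LinearMap.range_comp, LinearMap.range_eq_top.2 hs, Submodule.map_top, hφ x]

section Curve

attribute [local instance] Curv2.resAlgebra

variable {k : Type u} [Field k] [IsIntegral X] [X.Over (Spec (CommRingCat.of k))]
  [IsProper (X ↘ Spec (CommRingCat.of k))] [Smooth (X ↘ Spec (CommRingCat.of k))]

variable (k) in
/-- The degree of an effective cycle. -/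
def cdeg (α : Pt X →₀ ℕ) : ℕ := α.sum fun z n => n * Module.finrank k (X.residueField z.1)

theorem cdeg_single (z : Pt X) (n : ℕ) :
    cdeg k (Finsupp.single z n) = n * Module.finrank k (X.residueField z.1) :=
  Finsupp.sum_single_index (zero_mul _)

theorem cdeg_add (α β : Pt X →₀ ℕ) : cdeg k (α + β) = cdeg k α + cdeg k β :=
  Finsupp.sum_add_index' (fun _ => zero_mul _) fun _ _ _ => add_mul _ _ _

variable (hd : topologicalKrullDim X = 1)

include hd in
theorem deg_cycI (α : Pt X →₀ ℕ) :
    PicF.IsInvertible (ClSub.idealMod (cycI α)) ∧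
      Curv2.deg k X (ClSub.idealMod (cycI α)) 1 = -(cdeg k α : ℤ) := by
  haveI := Groth.L21.RR.isNoetherian_of_proper (X := X) k
  induction α using Finsupp.induction with
  | zero =>
    obtain ⟨e⟩ := Groth.L03.BlowPt.nonempty_idealMod_one (X := X)
    rw [show cycI (0 : Pt X →₀ ℕ) = 1 from Finsupp.prod_zero_index]
    refine ⟨Groth.L18.Ample.isInvertible_of_iso e.symm (Groth.L18.Ample.isInvertible_structureModule X), ?_⟩
    rw [Groth.L21.Duality.deg_congr e, Curv2.deg, show cdeg k (0 : Pt X →₀ ℕ) = 0 from Finsupp.sum_zero_index]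
    push_cast
    ring
  | single_add z n β _ _ ih =>
    have hmul : cycI (Finsupp.single z n + β) =
        Scheme.IdealSheafData.vanishingIdeal ⟨{z.1}, z.2⟩ ^ n * cycI β := by
      unfold cycI
      rw [Finsupp.prod_add_index' (fun _ => pow_zero _) (fun _ _ _ => pow_add _ _ _)]
      congr 1
      exact Finsupp.prod_single_index (pow_zero _)
    have hz := Groth.L21.RR.idealMod_point_pow k hd z.2
      (Groth.L07.SyntKoszul.isRegularLocalRing_of_smooth (X ↘ Spec (CommRingCat.of k)) z.1) n
    obtain ⟨e⟩ := Groth.L03.BlowPt.nonempty_idealMod_mul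
      ((Groth.Agent.L19.IdealInvertible.isEffCartier_iff _).1 hz.1)
      ((Groth.Agent.L19.IdealInvertible.isEffCartier_iff _).1 ih.1)
    rw [hmul]
    refine ⟨Groth.L18.Ample.isInvertible_of_iso e.symm (Groth.L18.GenLoc.isInvertible_tensor hz.1 ih.1), ?_⟩
    rw [Groth.L21.Duality.deg_congr e, Groth.L21.Duality.deg_tensor (k := k) hd hz.1 ih.1, ih.2, cdeg_add,
      cdeg_single, Curv2.deg, hz.2]
    push_cast
    ring

variable (k) in
include k hd in
/-- The cycle is determined by the section. -/
theorem Has.unique {L : X.Modules} (hL : PicF.IsInvertible L) {φ : Coh.structureModule X ⟶ L}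
    {α β : Pt X →₀ ℕ} (hα : Has φ α) (hβ : Has φ β) : α = β := by
  ext z
  haveI := Groth.L21.RR.isDiscreteValuationRing_stalk hd z.2
    (Groth.L07.SyntKoszul.isRegularLocalRing_of_smooth (X ↘ Spec (CommRingCat.of k)) z.1)
  obtain ⟨e, he⟩ := Groth.L21.RR.exists_frame_stalk hL z.1
  let E := LinearEquiv.ofBijective (LinearMap.toSpanSingleton (X.presheaf.stalk z.1) (L.presheaf.stalk z.1) e) he
  have h2 := congrArg (Submodule.map E.symm.toLinearMap) ((hα z.1).symm.trans (hβ z.1))
  rw [Submodule.map_smul'', Submodule.map_smul'', Submodule.map_top,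
    LinearMap.range_eq_top.2 E.symm.surjective, Ideal.smul_top_eq_map, Ideal.smul_top_eq_map] at h2
  simp only [Algebra.algebraMap_self, Ideal.map_id, Submodule.restrictScalars_self] at h2
  rw [expo_apply, expo_apply] at h2
  exact Ideal.pow_right_strictAnti _ (IsDiscreteValuationRing.not_a_field _)
    (Ideal.IsMaximal.ne_top inferInstance) |>.injective h2

variable (k) in
include k hd in
/-- Every non-zero section has orders of vanishing. -/
theorem exists_has {L : X.Modules} (hL : PicF.IsInvertible L) {φ : Coh.structureModule X ⟶ L} (hφ : φ ≠ 0) :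
    ∃ α, Has φ α := by
  classical
  haveI := Groth.L21.RR.isNoetherian_of_proper (X := X) k
  have hcoef : ∀ x : X, ∃ n : ℕ, (¬ IsClosed ({x} : Set X) → n = 0) ∧ (Function.Surjective (st φ x) → n = 0) ∧
      LinearMap.range (st φ x) = maximalIdeal (X.presheaf.stalk x) ^ n • ⊤ := by
    intro x
    by_cases hs : Function.Surjective (st φ x)
    · refine ⟨0, fun _ => rfl, fun _ => rfl, ?_⟩
      rw [LinearMap.range_eq_top.2 hs, pow_zero, Ideal.one_eq_top, Submodule.top_smul]
    have hx : IsClosed ({x} : Set X) := by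
      by_contra hx
      exact hs (Groth.L21.RR.surjective_st_of_not_closed hd.le hL hφ hx)
    haveI := Groth.L21.RR.isDiscreteValuationRing_stalk hd hx
      (Groth.L07.SyntKoszul.isRegularLocalRing_of_smooth (X ↘ Spec (CommRingCat.of k)) x)
    obtain ⟨e, he⟩ := Groth.L21.RR.exists_frame_stalk hL x
    obtain ⟨a, ha⟩ := he.2 (st φ x (one X x))
    have ha0 : a ≠ 0 := fun h => Groth.L21.RR.st_one_ne_zero hL hφ x (by rw [← ha, h]; exact zero_smul _ _)
    obtain ⟨π, hπ⟩ := IsDiscreteValuationRing.exists_irreducible (X.presheaf.stalk x)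
    obtain ⟨n, hn⟩ := IsDiscreteValuationRing.ideal_eq_span_pow_irreducible
      (s := Ideal.span {a}) (by rwa [Ne, Ideal.span_singleton_eq_bot]) hπ
    refine ⟨n, fun h => absurd hx h, fun h => absurd h hs, ?_⟩
    rw [hπ.maximalIdeal_eq, Ideal.span_singleton_pow, ← hn]
    refine le_antisymm ?_ (Submodule.smul_le.2 fun r hr v _ => ?_)
    · rintro _ ⟨v, rfl⟩
      obtain ⟨c, rfl⟩ := (Groth.L21.RR.bijective_smul_one x).2 v
      rw [map_smul, ← ha]
      exact Submodule.smul_mem _ c (Submodule.smul_mem_smul (Ideal.mem_span_singleton_self a) trivial)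
    · obtain ⟨c, rfl⟩ := he.2 v
      obtain ⟨b, rfl⟩ := Ideal.mem_span_singleton'.1 hr
      refine ⟨(b * c) • one X x, ?_⟩
      rw [map_smul, ← ha, smul_smul, smul_smul]
      congr 1
      ring
  choose n hn0 hn1 hn using hcoef
  have hfin : {z : Pt X | n z.1 ≠ 0}.Finite := by
    refine Set.Finite.of_finite_image ((Groth.L21.RR.finite_compl_genLocus hd.le hL hφ).subset ?_)
      Subtype.val_injective.injOn
    rintro _ ⟨z, hz, rfl⟩ hgen
    exact hz (hn1 z.1 ((Groth.L21.RR.mem_genLocus_iff hL φ z.1).1 hgen))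
  refine ⟨Finsupp.onFinset hfin.toFinset (fun z => n z.1) fun z hz => hfin.mem_toFinset.2 hz, fun x => ?_⟩
  rw [hn x]
  congr 2
  unfold expo
  split_ifs with hx
  · rw [Finsupp.onFinset_apply]
  · exact hn0 x hx

variable (k) in
include k hd in
/-- A non-zero section trivialises the twist by the ideal of its zeros. -/
theorem nonempty_iso_of_has {L : X.Modules} (hL : PicF.IsInvertible L) {φ : Coh.structureModule X ⟶ L}
    (hφ : φ ≠ 0) {α : Pt X →₀ ℕ} (hα : Has φ α) :
    Nonempty (Coh.structureModule X ≅ CohB1.tensorMod L (ClSub.idealMod (cycI α))) := by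
  haveI := Groth.L21.RR.isNoetherian_of_proper (X := X) k
  haveI := Groth.L21.RR.mono_of_ne_zero hL hφ
  haveI : Mono (Groth.L21.RR.twι L (cycI α)) := (Groth.L21.RR.shortExact_tw (cycI α) hL).mono_f
  obtain ⟨θ, -⟩ := exists_iso_of_range_eq φ (Groth.L21.RR.twι L (cycI α))
    fun x => (hα x).trans (range_twι hL α x).symm
  exact ⟨θ⟩

include hd in
/-- The degree of a section is the degree of its zeros. -/
theorem cdeg_eq_of_has {L : X.Modules} (hL : PicF.IsInvertible L) {φ : Coh.structureModule X ⟶ L}
    (hφ : φ ≠ 0) {α : Pt X →₀ ℕ} (hα : Has φ α) : (cdeg k α : ℤ) = Curv2.deg k X L 1 := by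
  obtain ⟨θ⟩ := nonempty_iso_of_has k hd hL hφ hα
  obtain ⟨hI, hId⟩ := deg_cycI (k := k) hd α
  have h1 := Groth.L21.Duality.deg_congr (k := k) θ
  rw [Groth.L21.Duality.deg_tensor (k := k) hd hL hI, hId, Curv2.deg] at h1
  push_cast at h1
  linarith

variable (k) in
include k hd in
/-- Every cycle is the cycle of zeros of a section. -/
theorem exists_section (α : Pt X →₀ ℕ) :
    ∃ (L : X.Modules) (φ : Coh.structureModule X ⟶ L), PicF.IsInvertible L ∧ φ ≠ 0 ∧ Has φ α := by
  haveI := Groth.L21.RR.isNoetherian_of_proper (X := X) k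
  obtain ⟨hI, -⟩ := deg_cycI (k := k) hd α
  obtain ⟨L, hL, ⟨j⟩⟩ := Groth.L08.Cube.exists_inverse hI
  let j' : Coh.structureModule X ≅ CohB1.tensorMod L (ClSub.idealMod (cycI α)) :=
    j.symm ≪≫ Groth.L00.Tensor.tensorComm _ _
  haveI : Mono (Groth.L21.RR.twι L (cycI α)) := (Groth.L21.RR.shortExact_tw (cycI α) hL).mono_f
  refine ⟨L, j'.hom ≫ Groth.L21.RR.twι L (cycI α), hL, fun h0 => ?_, fun x => ?_⟩
  · have h1 := congrArg (fun f => st f (genericPoint X) (one X (genericPoint X))) h0
    have h2 : st (j'.hom ≫ Groth.L21.RR.twι L (cycI α)) (genericPoint X) (one X (genericPoint X)) ≠ 0 := by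
      rw [Groth.L21.RR.st_comp]
      intro h
      have h3 : st j'.hom (genericPoint X) (one X (genericPoint X)) = 0 :=
        (Groth.L21.Mod.mono_iff_stalk_injective (Groth.L21.RR.twι L (cycI α))).1 inferInstance _
          (h.trans (map_zero (st (Groth.L21.RR.twι L (cycI α)) _)).symm)
      have h4 := congrArg (st j'.inv (genericPoint X)) h3
      rw [← Groth.L21.RR.st_comp, Iso.hom_inv_id, map_zero] at h4
      have h5 : (1 : X.presheaf.stalk (genericPoint X)) = 0 := (Groth.L21.RR.bijective_smul_one _).1 (by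
        show (1 : X.presheaf.stalk (genericPoint X)) • one X (genericPoint X) = (0 : X.presheaf.stalk (genericPoint X)) • _
        rw [one_smul, zero_smul]
        refine Eq.trans ?_ h4
        rw [st_id])
      exact one_ne_zero h5
    refine h2 (h1.trans ?_)
    show st (0 : Coh.structureModule X ⟶ L) _ _ = 0
    rw [st, Functor.map_zero]
    rfl
  · have hs : Function.Surjective (st j'.hom x) := fun v => ⟨st j'.inv x v, by
      rw [← Groth.L21.RR.st_comp, Iso.inv_hom_id, st_id]⟩
    rw [show st (j'.hom ≫ Groth.L21.RR.twι L (cycI α)) x = (st (Groth.L21.RR.twι L (cycI α)) x).comp (st j'.hom x)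
        from LinearMap.ext (Groth.L21.RR.st_comp _ _ x),
      LinearMap.range_comp, LinearMap.range_eq_top.2 hs, Submodule.map_top, range_twι hL α x]

end Curve

end Groth.L03.CurveCount
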