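import Groth.Agent.L03.CurveCount.Series
import Groth.Agent.L26.Zeta.Roots
import Mathlib.RingTheory.PowerSeries.Trunc

/-!
# The numerator of the zeta function of a curve
-/

set_option autoImplicit false
set_option linter.style.haveILetI false
set_option linter.unusedSectionVars false
set_option backward.isDefEq.respectTransparency false

universe u

open CategoryTheory CategoryTheory.Limits AlgebraicGeometry TopologicalSpace Opposite

noncomputable section

namespace Groth.L03.CurveCount

variable (k : Type u) [Field k] [Finite k] (X : Scheme.{u}) [X.Over (Spec (CommRingCat.of k))]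

/-- The second difference of the class sums. -/
def bnum (n : ℤ) : ℚ :=
  (csum k X n - (Nat.card k + 1 : ℚ) * csum k X (n - 1) + (Nat.card k : ℚ) * csum k X (n - 2)) /
    ((Nat.card k : ℚ) - 1)

/-- The numerator series, with integral coefficients. -/
def numSer : PowerSeries ℤ :=
  PowerSeries.mk (fun n => (effCount k X n : ℤ)) *
    ((1 - PowerSeries.X) * (1 - PowerSeries.C (Nat.card k : ℤ) * PowerSeries.X))

/-- The numerator polynomial. -/
def numP : Polynomial ℤ := PowerSeries.trunc (2 * Curv2.genus k X + 1) (numSer k X)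

variable {X}
variable [IsProper (X ↘ Spec (CommRingCat.of k))] [IsIntegral X] [Smooth (X ↘ Spec (CommRingCat.of k))]
  [GeometricallyIrreducible (X ↘ Spec (CommRingCat.of k))] (hd : topologicalKrullDim X = 1)

include hd

theorem one_lt_card_cast : (1 : ℚ) < Nat.card k := by exact_mod_cast Finite.one_lt_card

theorem bnum_neg {n : ℤ} (hn : n < 0) : bnum k X n = 0 := by
  rw [bnum, csum_neg k hd hn, csum_neg k hd (by omega : n - 1 < 0), csum_neg k hd (by omega : n - 2 < 0)]
  ring_nf

theorem bnum_symm (n : ℤ) :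
    bnum k X (2 * (Curv2.genus k X : ℤ) - n) = (Nat.card k : ℚ) ^ ((Curv2.genus k X : ℤ) - n) * bnum k X n := by
  have hq : (Nat.card k : ℚ) ≠ 0 := by exact_mod_cast (Nat.card_pos (α := k)).ne'
  set g : ℤ := (Curv2.genus k X : ℤ) with hg
  set q : ℚ := (Nat.card k : ℚ) with hqdef
  have h : ∀ m : ℤ, csum k X m = q ^ (m + 1 - g) * csum k X (2 * g - 2 - m) := fun m => csum_symm k hd m
  rw [bnum, bnum, h (2 * g - n), h (2 * g - n - 1), h (2 * g - n - 2),
    show 2 * g - n + 1 - g = (g - n) + 1 by ring, show 2 * g - n - 1 + 1 - g = g - n by ring,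
    show 2 * g - n - 2 + 1 - g = (g - n) + (-1) by ring, zpow_add₀ hq, zpow_add₀ hq, zpow_one, zpow_neg_one,
    show 2 * g - 2 - (2 * g - n) = n - 2 by ring, show 2 * g - 2 - (2 * g - n - 1) = n - 1 by ring,
    show 2 * g - 2 - (2 * g - n - 2) = n by ring]
  field_simp
  ring

theorem coeff_numSer (n : ℕ) : ((PowerSeries.coeff n (numSer k X) : ℤ) : ℚ) = bnum k X n := by
  have hne : (Nat.card k : ℚ) - 1 ≠ 0 := sub_ne_zero.2 (one_lt_card_cast k hd (X := X)).ne'
  have hA : ∀ d : ℕ, (effCount k X d : ℚ) = (csum k X d - Nat.card (PicD k X (0 : ℤ))) / ((Nat.card k : ℚ) - 1) :=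
    fun d => by rw [← csum_eff k hd d, mul_div_cancel_left₀ _ hne]
  have hneg1 := csum_neg k hd (X := X) (show (-1 : ℤ) < 0 by norm_num)
  have hneg2 := csum_neg k hd (X := X) (show (-2 : ℤ) < 0 by norm_num)
  have e : numSer k X = PowerSeries.mk (fun m => (effCount k X m : ℤ)) -
      PowerSeries.C ((Nat.card k : ℤ) + 1) * (PowerSeries.X * PowerSeries.mk (fun m => (effCount k X m : ℤ))) +
      PowerSeries.C (Nat.card k : ℤ) *
        (PowerSeries.X * (PowerSeries.X * PowerSeries.mk (fun m => (effCount k X m : ℤ)))) := by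
    rw [numSer, map_add, map_one]; ring
  rw [e, map_add, map_sub, PowerSeries.coeff_C_mul, PowerSeries.coeff_C_mul]
  match n with
  | 0 =>
    simp only [PowerSeries.coeff_zero_X_mul, PowerSeries.coeff_mk, mul_zero, sub_zero, add_zero]
    push_cast
    rw [hA 0, bnum, Nat.cast_zero, show (0 : ℤ) - 1 = -1 by norm_num, show (0 : ℤ) - 2 = -2 by norm_num,
      hneg1, hneg2]
    ring_nf
  | 1 =>
    simp only [PowerSeries.coeff_succ_X_mul, PowerSeries.coeff_zero_X_mul, PowerSeries.coeff_mk, mul_zero, add_zero]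
    push_cast
    rw [hA 1, hA 0, bnum, show (1 : ℤ) - 1 = 0 by norm_num, show (1 : ℤ) - 2 = -1 by norm_num, hneg1,
      Nat.cast_one, Nat.cast_zero]
    field_simp
    ring
  | m + 2 =>
    simp only [PowerSeries.coeff_succ_X_mul, PowerSeries.coeff_mk]
    push_cast
    rw [hA (m + 2), hA (m + 1), hA m, bnum, show ((m : ℤ) + 2) - 1 = ((m + 1 : ℕ) : ℤ) by push_cast; ring,
      show ((m : ℤ) + 2) - 2 = ((m : ℕ) : ℤ) by push_cast; ring,
      show ((m : ℤ) + 2) = ((m + 2 : ℕ) : ℤ) by push_cast; ring]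
    field_simp
    ring

theorem coeff_numP (n : ℕ) : ((((numP k X).coeff n) : ℤ) : ℚ) = bnum k X n := by
  rw [numP, PowerSeries.coeff_trunc]
  split_ifs with h
  · exact coeff_numSer k hd n
  · rw [Int.cast_zero, show (n : ℤ) = 2 * (Curv2.genus k X : ℤ) - (2 * (Curv2.genus k X : ℤ) - n) by ring,
      bnum_symm k hd, bnum_neg k hd (by omega), mul_zero]

theorem numP_coe : (numP k X : PowerSeries ℤ) = numSer k X := by
  ext n
  rw [Polynomial.coeff_coe]
  exact_mod_cast (coeff_numP k hd n).trans (coeff_numSer k hd n).symm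

theorem natDegree_numP_le : (numP k X).natDegree ≤ 2 * Curv2.genus k X :=
  Nat.lt_succ_iff.1 (PowerSeries.natDegree_trunc_lt _ _)

theorem numP_coeff_zero : (numP k X).coeff 0 = 1 := by
  have h0 : effCount k X 0 = 1 := by
    have h1 := congrArg (PowerSeries.coeff 0) (zetaFun_eq k (X := X))
    rw [Groth.L11.ZetaSeries.coeff_zero_zetaFun, PowerSeries.coeff_mk] at h1
    exact_mod_cast h1.symm
  rw [← Polynomial.coeff_coe, numP_coe k hd, numSer, PowerSeries.coeff_zero_eq_constantCoeff_apply, map_mul,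
    map_mul, ← PowerSeries.coeff_zero_eq_constantCoeff_apply, PowerSeries.coeff_mk, h0]
  simp

theorem numP_eval_one : (numP k X).eval 1 = (Nat.card (PicD k X (0 : ℤ)) : ℤ) := by
  have hne : (Nat.card k : ℚ) - 1 ≠ 0 := sub_ne_zero.2 (one_lt_card_cast k hd (X := X)).ne'
  have hsum : ∀ N : ℕ, (∑ n ∈ Finset.range (N + 1), bnum k X n) * ((Nat.card k : ℚ) - 1) =
      csum k X N - (Nat.card k : ℚ) * csum k X ((N : ℤ) - 1) -
        (csum k X (-1) - (Nat.card k : ℚ) * csum k X (-2)) := by
    intro N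
    induction N with
    | zero =>
      rw [Finset.sum_range_one, bnum, div_mul_cancel₀ _ hne, Nat.cast_zero, show (0 : ℤ) - 1 = -1 by norm_num,
        show (0 : ℤ) - 2 = -2 by norm_num]
      ring
    | succ N ih =>
      rw [Finset.sum_range_succ, add_mul, ih, bnum, div_mul_cancel₀ _ hne,
        show ((N + 1 : ℕ) : ℤ) - 1 = (N : ℤ) by push_cast; ring,
        show ((N + 1 : ℕ) : ℤ) - 2 = (N : ℤ) - 1 by push_cast; ring]
      ring
  have h1 : (((numP k X).eval 1 : ℤ) : ℚ) = ∑ n ∈ Finset.range (2 * Curv2.genus k X + 1), bnum k X n := by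
    rw [Polynomial.eval_eq_sum_range' (Nat.lt_succ_of_le (natDegree_numP_le k hd))]
    push_cast
    simp only [one_pow, mul_one, coeff_numP k hd]
  have h2 := hsum (2 * Curv2.genus k X)
  set g : ℤ := (Curv2.genus k X : ℤ) with hg
  rw [← h1, show ((2 * Curv2.genus k X : ℕ) : ℤ) = 2 * g by push_cast; ring, csum_symm k hd (2 * g),
    csum_symm k hd (2 * g - 1), ← hg, show 2 * g - 2 - 2 * g = -2 by ring,
    show 2 * g - 2 - (2 * g - 1) = -1 by ring, csum_neg k hd (show (-1 : ℤ) < 0 by norm_num),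
    csum_neg k hd (show (-2 : ℤ) < 0 by norm_num), show 2 * g + 1 - g = g + 1 by ring,
    show 2 * g - 1 + 1 - g = g by ring, zpow_add₀ (by exact_mod_cast (Nat.card_pos (α := k)).ne' : (Nat.card k : ℚ) ≠ 0),
    zpow_one] at h2
  have h3 : (((numP k X).eval 1 : ℤ) : ℚ) = (Nat.card (PicD k X (0 : ℤ)) : ℚ) :=
    mul_right_cancel₀ hne (h2.trans (by ring))
  exact_mod_cast h3

theorem zetaFun_mul :
    Zeta.zetaFun (X ↘ Spec (CommRingCat.of k)) *
        ((1 - PowerSeries.X) * (1 - PowerSeries.C (Nat.card k : ℚ) * PowerSeries.X)) =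
      (((numP k X).map (Int.castRingHom ℚ) : Polynomial ℚ) : PowerSeries ℚ) := by
  rw [zetaFun_eq k, Polynomial.polynomial_map_coe, numP_coe k hd, numSer, map_mul, map_mul, map_sub, map_sub,
    map_one, map_mul, PowerSeries.map_X, PowerSeries.map_C]
  congr 1

/-- The reciprocal roots of the numerator. -/
theorem exists_roots : ∃ α : Fin (2 * Curv2.genus k X) → ℂ, (∀ i, IsIntegral ℤ (α i)) ∧
    (numP k X).map (Int.castRingHom ℂ) = ∏ i, (1 - Polynomial.C (α i) * Polynomial.X) ∧
    ∀ i, α i * α (Fin.rev i) = (Nat.card k : ℂ) := by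
  classical
  set g := Curv2.genus k X
  set q : ℂ := (Nat.card k : ℂ)
  have hq : q ≠ 0 := Nat.cast_ne_zero.2 Nat.card_pos.ne'
  set L := (numP k X).map (Int.castRingHom ℂ) with hL
  have h0 : L.coeff 0 = 1 := by rw [hL, Polynomial.coeff_map, numP_coeff_zero k hd, map_one]
  have hsym : ∀ i ≤ 2 * g, L.coeff (2 * g - i) = q ^ ((g : ℤ) - i) * L.coeff i := fun i hi => by
    have h := bnum_symm k hd (X := X) (i : ℤ)
    rw [show 2 * (g : ℤ) - i = ((2 * g - i : ℕ) : ℤ) by rw [Nat.cast_sub hi]; push_cast; ring,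
      ← coeff_numP k hd, ← coeff_numP k hd] at h
    have h' := congrArg (fun r : ℚ => (r : ℂ)) h
    push_cast at h'
    rw [hL, Polynomial.coeff_map, Polynomial.coeff_map]
    simpa using h'
  have hdeg : L.natDegree = 2 * g := by
    refine le_antisymm ((Polynomial.natDegree_map_le).trans (natDegree_numP_le k hd))
      (Polynomial.le_natDegree_of_ne_zero ?_)
    have h := hsym 0 (Nat.zero_le _)
    rw [Nat.sub_zero, h0, mul_one, Nat.cast_zero, sub_zero, zpow_natCast] at h
    rw [h]
    exact pow_ne_zero g hq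
  have htd : L.natTrailingDegree = 0 :=
    Nat.le_zero.1 (Polynomial.natTrailingDegree_le_of_ne_zero (by rw [h0]; exact one_ne_zero))
  set R := L.reverse with hR
  have hRmonic : R.Monic := by
    rw [Polynomial.Monic, hR, Polynomial.reverse_leadingCoeff, Polynomial.trailingCoeff, htd, h0]
  have hRdeg : R.natDegree = 2 * g := by rw [hR, Polynomial.reverse_natDegree, hdeg, htd, Nat.sub_zero]
  have hLR : L = R.reverse := by
    ext n
    rw [Polynomial.coeff_reverse, hRdeg, hR, Polynomial.coeff_reverse, hdeg, Polynomial.revAt_invol]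
  set M := R.roots with hM
  have hsplit : R = (M.map fun a => Polynomial.X - Polynomial.C a).prod :=
    ((IsAlgClosed.splits R).eq_prod_roots_of_monic hRmonic)
  have hcard : Multiset.card M = 2 * g := by
    rw [hM, ← hRdeg]; exact (IsAlgClosed.splits R).natDegree_eq_card_roots.symm
  have hLprod : L = (M.map fun a => 1 - Polynomial.C a * Polynomial.X).prod := by
    rw [hLR, hsplit, Groth.Agent.Zeta.reverse_prod_X_sub_C]
  have hR0 : R.eval 0 = q ^ g := by
    rw [← Polynomial.coeff_zero_eq_eval_zero, hR, Polynomial.coeff_reverse, hdeg,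
      Polynomial.revAt_le (Nat.zero_le _), hsym 0 (Nat.zero_le _), h0, mul_one, Nat.cast_zero, sub_zero,
      zpow_natCast]
  have hM0 : (0 : ℂ) ∉ M := fun h => pow_ne_zero g hq (by rw [← hR0]; exact (Polynomial.mem_roots'.1 h).2)
  have hprod : M.prod = q ^ g := by
    rw [← hR0, hsplit, Polynomial.eval_multiset_prod, Multiset.map_map]
    simp only [Function.comp_apply, Polynomial.eval_sub, Polynomial.eval_X, Polynomial.eval_C, zero_sub]
    rw [Multiset.prod_map_neg, hcard, pow_mul, neg_one_sq, one_pow, one_mul]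
  have hmap : M.map (q / ·) = M := by
    have e : R = Polynomial.C (q ^ g) * L.comp (Polynomial.C q⁻¹ * Polynomial.X) := by
      ext n
      rw [Polynomial.coeff_C_mul, Polynomial.comp_C_mul_X_coeff, hR, Polynomial.coeff_reverse, hdeg]
      rcases le_or_gt n (2 * g) with hn | hn
      · rw [Polynomial.revAt_le hn, hsym n hn, zpow_sub₀ hq, zpow_natCast, zpow_natCast, inv_pow]
        ring
      · have : L.coeff n = 0 := Polynomial.coeff_eq_zero_of_natDegree_lt (hdeg ▸ hn)
        rw [Polynomial.revAt_eq_self_of_lt hn, this, zero_mul, mul_zero]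
    have e2 : L.comp (Polynomial.C q⁻¹ * Polynomial.X) =
        Polynomial.C (M.map fun a => -(a * q⁻¹)).prod *
          ((M.map (q / ·)).map fun b => Polynomial.X - Polynomial.C b).prod := by
      rw [hLprod, Polynomial.multiset_prod_comp, Multiset.map_map, map_multiset_prod, Multiset.map_map,
        Multiset.map_map, ← Multiset.prod_map_mul]
      refine congrArg _ (Multiset.map_congr rfl fun a ha => ?_)
      have ha0 : a ≠ 0 := fun h => hM0 (h ▸ ha)
      simp only [Function.comp_apply, Polynomial.sub_comp, Polynomial.one_comp, Polynomial.mul_comp,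
        Polynomial.C_comp, Polynomial.X_comp]
      rw [mul_sub, ← Polynomial.C_mul, show -(a * q⁻¹) * (q / a) = (-1 : ℂ) by field_simp, map_neg, map_neg,
        map_one, map_mul]
      ring
    have hc : q ^ g * (M.map fun a => -(a * q⁻¹)).prod ≠ 0 := by
      refine mul_ne_zero (pow_ne_zero g hq) (Multiset.prod_ne_zero ?_)
      rw [Multiset.mem_map]
      rintro ⟨a, ha, h⟩
      rw [neg_eq_zero, mul_eq_zero, inv_eq_zero] at h
      exact h.elim (fun h => hM0 (h ▸ ha)) hq
    conv_rhs => rw [hM, e, e2, ← mul_assoc, ← Polynomial.C_mul, Polynomial.roots_C_mul _ hc,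
      Polynomial.roots_multiset_prod_X_sub_C]
  obtain ⟨α, hα, hpair⟩ := Groth.Agent.Zeta.exists_pairing hq g M hcard hM0 hmap hprod
  refine ⟨α, fun i => ?_, ?_, hpair⟩
  · have hmem : α i ∈ M := by rw [← hα, Multiset.mem_coe, List.mem_ofFn]; exact ⟨i, rfl⟩
    have hp0 := numP_coeff_zero k hd (X := X)
    refine ⟨(numP k X).reverse, ?_, ?_⟩
    · rw [Polynomial.Monic, Polynomial.reverse_leadingCoeff, Polynomial.trailingCoeff,
        Nat.le_zero.1 (Polynomial.natTrailingDegree_le_of_ne_zero (by rw [hp0]; exact one_ne_zero)), hp0]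
    · have hnd : (numP k X).natDegree = 2 * g := by
        rw [← hdeg, hL, Polynomial.natDegree_map_eq_of_injective Int.cast_injective]
      have e : R = (numP k X).reverse.map (Int.castRingHom ℂ) := by
        ext n
        rw [Polynomial.coeff_map, hR, Polynomial.coeff_reverse, Polynomial.coeff_reverse, hdeg, hnd,
          hL, Polynomial.coeff_map]
      have h := (Polynomial.mem_roots'.1 hmem).2
      rw [e, Polynomial.IsRoot, Polynomial.eval_map] at h
      rw [algebraMap_int_eq]
      exact h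
  · rw [hLprod, ← hα, Multiset.map_coe, Multiset.prod_coe, List.map_ofFn, List.prod_ofFn]
    rfl

/-- The point counts in terms of the reciprocal roots. -/
theorem exists_powerSum : ∃ α : Fin (2 * Curv2.genus k X) → ℂ, (∀ i, IsIntegral ℤ (α i)) ∧
    (∀ i, α i * α (Fin.rev i) = (Nat.card k : ℂ)) ∧
    ∀ n : ℕ, (Zeta.nPts (X ↘ Spec (CommRingCat.of k)) (n + 1) : ℂ) =
      (Nat.card k : ℂ) ^ (n + 1) + 1 - ∑ i, α i ^ (n + 1) := by
  obtain ⟨α, hint, hprod, hpair⟩ := exists_roots k hd (X := X)
  refine ⟨α, hint, hpair, fun n => ?_⟩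
  set φ : ℚ →+* ℂ := algebraMap ℚ ℂ
  set Z := PowerSeries.map φ (Zeta.zetaFun (X ↘ Spec (CommRingCat.of k))) with hZ
  have hZlog : Groth.L11.ZetaSeries.HasLogDeriv Z
      (PowerSeries.mk fun n => (Zeta.nPts (X ↘ Spec (CommRingCat.of k)) (n + 1) : ℂ)) := by
    obtain ⟨h1, h2⟩ := Groth.L11.ZetaSeries.hasLogDeriv_zetaFun (X ↘ Spec (CommRingCat.of k))
    refine ⟨by rw [hZ, PowerSeries.coeff_map, h1, map_one], PowerSeries.ext fun m => ?_⟩
    have h3 := congrArg (fun s => φ (PowerSeries.coeff m s)) h2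
    simp only [PowerSeries.coeff_derivative, PowerSeries.coeff_mul, map_mul, map_sum, PowerSeries.coeff_mk,
      map_natCast, map_add, map_one] at h3
    simp only [hZ, PowerSeries.coeff_derivative, PowerSeries.coeff_mul, PowerSeries.coeff_map, PowerSeries.coeff_mk]
    exact h3
  have hu := (Groth.L11.ZetaSeries.hasLogDeriv_one_sub_C_mul_X (1 : ℂ)).mul
    (Groth.L11.ZetaSeries.hasLogDeriv_one_sub_C_mul_X (Nat.card k : ℂ))
  have hL := hZlog.mul hu
  have hR := Groth.L11.ZetaSeries.HasLogDeriv.prod (Finset.univ : Finset (Fin (2 * Curv2.genus k X)))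
    (fun i => (1 - PowerSeries.C (α i) * PowerSeries.X : PowerSeries ℂ))
    (fun i => PowerSeries.mk fun n => -α i ^ (n + 1))
    (fun i _ => Groth.L11.ZetaSeries.hasLogDeriv_one_sub_C_mul_X (α i))
  have heq : Z * ((1 - PowerSeries.C (1 : ℂ) * PowerSeries.X) *
      (1 - PowerSeries.C (Nat.card k : ℂ) * PowerSeries.X)) =
        ∏ i, (1 - PowerSeries.C (α i) * PowerSeries.X) := by
    have h1 := congrArg (PowerSeries.map φ) (zetaFun_mul k hd (X := X))
    rw [map_mul, map_mul, map_sub, map_sub, map_one, map_mul, PowerSeries.map_X, PowerSeries.map_C, map_natCast,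
      ← Polynomial.polynomial_map_coe, Polynomial.map_map] at h1
    rw [map_one, one_mul, hZ, h1, show φ.comp (Int.castRingHom ℚ) = Int.castRingHom ℂ from RingHom.ext_int _ _,
      hprod, ← Polynomial.coeToPowerSeries.ringHom_apply, map_prod]
    refine Finset.prod_congr rfl fun i _ => ?_
    rw [map_sub, map_one, map_mul, Polynomial.coeToPowerSeries.ringHom_apply,
      Polynomial.coeToPowerSeries.ringHom_apply, Polynomial.coe_C, Polynomial.coe_X]
  have hne : (∏ i, (1 - PowerSeries.C (α i) * PowerSeries.X) : PowerSeries ℂ) ≠ 0 := fun h0 => by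
    have := congrArg (PowerSeries.coeff 0) h0
    rw [hR.coeff_zero, map_zero] at this
    exact one_ne_zero this
  have h := hL.deriv
  rw [heq] at h
  have h' := congrArg (PowerSeries.coeff n) (mul_left_cancel₀ hne (hR.deriv.symm.trans h))
  simp only [map_add, map_sum, PowerSeries.coeff_mk, one_pow] at h'
  rw [Finset.sum_neg_distrib] at h'
  linear_combination -h'

end Groth.L03.CurveCount
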