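import Groth.Agent.L03.CurveCount.Count
import Groth.Agent.L21.Duality.Main
import Groth.Agent.L21.Duality.Corollaries

/-!
# The zeta function as the generating series of effective cycles, and sums over classes
-/

set_option autoImplicit false
set_option linter.style.haveILetI false
set_option linter.unusedSectionVars false
set_option backward.isDefEq.respectTransparency false

universe u

open CategoryTheory CategoryTheory.Limits AlgebraicGeometry TopologicalSpace Opposite
open Groth.L21.RR (h)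

noncomputable section

namespace Groth.L03.CurveCount

attribute [local instance] Curv2.resAlgebra

variable (k : Type u) [Field k] [Finite k] {X : Scheme.{u}} [X.Over (Spec (CommRingCat.of k))]
  [IsProper (X ↘ Spec (CommRingCat.of k))] [IsIntegral X] [Smooth (X ↘ Spec (CommRingCat.of k))]

/-- The closed points of degree dividing a number. -/
theorem nPts_eq_sum {m : ℕ} (hm : 0 < m) :
    ∃ P : Finset (Pt X), (∀ z, z ∈ P ↔ Module.finrank k (X.residueField z.1) ∣ m) ∧
      Zeta.nPts (X ↘ Spec (CommRingCat.of k)) m = ∑ z ∈ P, Module.finrank k (X.residueField z.1) := by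
  classical
  haveI : CompactSpace X := QuasiCompact.compactSpace_of_compactSpace (X ↘ Spec (CommRingCat.of k))
  have hfin : {z : Pt X | Module.finrank k (X.residueField z.1) ∣ m}.Finite := by
    refine Set.Finite.of_finite_image ?_ (f := fun z : Pt X => z.1) Subtype.val_injective.injOn
    refine (Groth.L11.Points.finite_dvd (k₀ := k) (X := X) hm).subset ?_
    rintro _ ⟨z, hz, rfl⟩
    exact ⟨z.2, hz⟩
  refine ⟨hfin.toFinset, fun z => hfin.mem_toFinset, ?_⟩
  rw [Zeta.nPts, ← Finset.sum_fiberwise_of_maps_to (g := fun z : Pt X => Module.finrank k (X.residueField z.1))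
    (t := m.divisors) (fun z hz => Nat.mem_divisors.2 ⟨hfin.mem_toFinset.1 hz, hm.ne'⟩)]
  refine Finset.sum_congr rfl fun e he => ?_
  rw [Finset.sum_congr rfl fun z hz => (Finset.mem_filter.1 hz).2, Finset.sum_const, smul_eq_mul, mul_comm e]
  congr 1
  rw [Zeta.degCount, ← Nat.card_eq_finsetCard]
  refine Nat.card_congr
    { toFun := fun x => ⟨⟨x.1, x.2.1⟩, Finset.mem_filter.2 ⟨hfin.mem_toFinset.2 ?_,
        ((Groth.L11.Points.residueDegree_eq x.1).symm.trans x.2.2)⟩⟩
      invFun := fun z => ⟨z.1.1, z.1.2, (Groth.L11.Points.residueDegree_eq z.1.1).trans (Finset.mem_filter.1 z.2).2⟩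
      left_inv := fun x => rfl
      right_inv := fun z => rfl }
  show Module.finrank k (X.residueField x.1) ∣ m
  rw [← Groth.L11.Points.residueDegree_eq x.1, x.2.2]
  exact (Nat.mem_divisors.1 he).1

/-- The logarithmic derivative of the generating series of effective cycles. -/
theorem effCount_rec (n : ℕ) : (n + 1) * effCount k X (n + 1) =
    ∑ p ∈ Finset.antidiagonal n, effCount k X p.1 * Zeta.nPts (X ↘ Spec (CommRingCat.of k)) (p.2 + 1) := by
  classical
  have hSfin : ∀ d, {α : Pt X →₀ ℕ | cdeg k α = d}.Finite := fun d => Set.finite_coe_iff.1 (finite_eff k d)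
  let S := fun d => (hSfin d).toFinset
  have hS : ∀ d α, α ∈ S d ↔ cdeg k α = d := fun d α => (hSfin d).mem_toFinset
  have hcard : ∀ d, effCount k X d = (S d).card := fun d => by
    rw [effCount, ← Nat.card_eq_finsetCard]
    exact Nat.card_congr (Equiv.subtypeEquivRight fun α => (hS d α).symm)
  choose P hP hPN using fun j : ℕ => nPts_eq_sum k (X := X) (Nat.succ_pos j)
  let deg := fun z : Pt X => Module.finrank k (X.residueField z.1)
  have hdeg : ∀ z : Pt X, 0 < deg z := fun z => by
    haveI := Groth.L21.Disc.finite_residueField_of_isClosed k z.2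
    exact Module.finrank_pos
  let A : Finset (Σ _ : Pt X →₀ ℕ, Σ _ : Pt X, ℕ) :=
    (S (n + 1)).sigma fun α => α.support.sigma fun z => Finset.range (α z)
  let B : Finset (Σ _ : ℕ × ℕ, (Pt X →₀ ℕ) × Pt X) :=
    (Finset.antidiagonal n).sigma fun p => S p.1 ×ˢ P p.2
  have hA : ∑ t ∈ A, deg t.2.1 = (n + 1) * effCount k X (n + 1) := by
    rw [Finset.sum_sigma]
    refine (Finset.sum_congr rfl (g := fun _ => n + 1) fun α hα => ?_).trans (by
      rw [Finset.sum_const, smul_eq_mul, ← hcard, mul_comm])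
    rw [Finset.sum_sigma]
    simp only [Finset.sum_const, Finset.card_range, smul_eq_mul]
    exact (hS _ _).1 hα
  have hB : ∑ t ∈ B, deg t.2.2 =
      ∑ p ∈ Finset.antidiagonal n, effCount k X p.1 * Zeta.nPts (X ↘ Spec (CommRingCat.of k)) (p.2 + 1) := by
    rw [Finset.sum_sigma]
    refine Finset.sum_congr rfl fun p _ => ?_
    rw [Finset.sum_product]
    show ∑ x ∈ S p.1, ∑ y ∈ P p.2, deg y = _
    rw [Finset.sum_const, smul_eq_mul, ← hcard, ← hPN p.2]
  rw [← hA, ← hB]
  have hsplit : ∀ t ∈ A, (t.1 - Finsupp.single t.2.1 (t.2.2 + 1)) + Finsupp.single t.2.1 (t.2.2 + 1) = t.1 ∧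
      cdeg k (t.1 - Finsupp.single t.2.1 (t.2.2 + 1)) + (t.2.2 + 1) * deg t.2.1 = n + 1 := by
    rintro ⟨α, z, j⟩ ht
    simp only [A, Finset.mem_sigma, Finset.mem_range] at ht
    have he : (α - Finsupp.single z (j + 1)) + Finsupp.single z (j + 1) = α := by
      ext w
      rw [Finsupp.add_apply, Finsupp.tsub_apply]
      by_cases hw : w = z
      · subst hw; rw [Finsupp.single_eq_same]; omega
      · rw [Finsupp.single_eq_of_ne hw]; omega
    refine ⟨he, ?_⟩
    rw [← (hS _ _).1 ht.1]
    conv_rhs => rw [← he]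
    rw [cdeg_add, cdeg_single]
  refine Finset.sum_nbij'
    (fun t => ⟨(n + 1 - (t.2.2 + 1) * deg t.2.1, (t.2.2 + 1) * deg t.2.1 - 1),
      (t.1 - Finsupp.single t.2.1 (t.2.2 + 1), t.2.1)⟩)
    (fun t => ⟨t.2.1 + Finsupp.single t.2.2 ((t.1.2 + 1) / deg t.2.2), t.2.2, (t.1.2 + 1) / deg t.2.2 - 1⟩)
    ?_ ?_ ?_ ?_ (fun t _ => rfl)
  · intro t ht
    obtain ⟨-, hc⟩ := hsplit t ht
    have hpos : 0 < (t.2.2 + 1) * deg t.2.1 := Nat.mul_pos t.2.2.succ_pos (hdeg _)
    simp only [B, Finset.mem_coe, Finset.mem_sigma, Finset.mem_antidiagonal, Finset.mem_product, hS, hP]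
    refine ⟨by omega, by omega, ?_⟩
    rw [show ((t.2.2 + 1) * deg t.2.1 - 1).succ = (t.2.2 + 1) * deg t.2.1 by omega]
    exact dvd_mul_left _ _
  · rintro ⟨⟨i, m⟩, β, z⟩ ht
    simp only [B, Finset.mem_coe, Finset.mem_sigma, Finset.mem_antidiagonal, Finset.mem_product, hS, hP] at ht
    obtain ⟨him, hβ, hdvd⟩ := ht
    have hq : 0 < (m + 1) / deg z := Nat.div_pos (Nat.le_of_dvd m.succ_pos hdvd) (hdeg z)
    simp only [A, Finset.mem_coe, Finset.mem_sigma, Finset.mem_range, Finsupp.mem_support_iff, hS,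
      Finsupp.add_apply, Finsupp.single_eq_same]
    refine ⟨?_, by omega, by omega⟩
    rw [cdeg_add, cdeg_single, hβ, Nat.div_mul_cancel hdvd]
    omega
  · intro t ht
    obtain ⟨he, hc⟩ := hsplit t ht
    have hpos : 0 < (t.2.2 + 1) * deg t.2.1 := Nat.mul_pos t.2.2.succ_pos (hdeg _)
    have hj : ((t.2.2 + 1) * deg t.2.1 - 1 + 1) / deg t.2.1 = t.2.2 + 1 := by
      rw [Nat.sub_add_cancel hpos, Nat.mul_div_cancel _ (hdeg _)]
    simp only [hj, he, Nat.add_sub_cancel]
  · rintro ⟨⟨i, m⟩, β, z⟩ ht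
    simp only [B, Finset.mem_coe, Finset.mem_sigma, Finset.mem_antidiagonal, Finset.mem_product, hS, hP] at ht
    obtain ⟨him, hβ, hdvd⟩ := ht
    have hq : 0 < (m + 1) / deg z := Nat.div_pos (Nat.le_of_dvd m.succ_pos hdvd) (hdeg z)
    have h1 : (m + 1) / deg z - 1 + 1 = (m + 1) / deg z := Nat.sub_add_cancel hq
    simp only [h1, Nat.div_mul_cancel hdvd, add_tsub_cancel_right]
    have h2 : (m + 1) / deg z * deg z = m + 1 := Nat.div_mul_cancel hdvd
    refine Sigma.ext (Prod.ext ?_ ?_) HEq.rfl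
    · show n + 1 - (m + 1) / deg z * deg z = i
      omega
    · show (m + 1) / deg z * deg z - 1 = m
      omega

/-- The zeta function is the generating series of effective cycles. -/
theorem zetaFun_eq : Zeta.zetaFun (X ↘ Spec (CommRingCat.of k)) = PowerSeries.mk fun n => (effCount k X n : ℚ) := by
  refine Groth.L11.ZetaSeries.zetaFun_eq_of _ _ ?_ (PowerSeries.ext fun n => ?_)
  · rw [PowerSeries.coeff_mk, effCount]
    have hz : ∀ α : Pt X →₀ ℕ, cdeg k α = 0 → α = 0 := fun α hα => by
      ext z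
      haveI := Groth.L21.Disc.finite_residueField_of_isClosed k z.2
      by_contra hne
      have hmem : z ∈ α.support := Finsupp.mem_support_iff.2 hne
      have := Finset.single_le_sum (f := fun z => α z * Module.finrank k (X.residueField z.1))
        (fun _ _ => Nat.zero_le _) hmem
      have hpos : 0 < α z * Module.finrank k (X.residueField z.1) :=
        Nat.mul_pos (Nat.pos_of_ne_zero hne) Module.finrank_pos
      simp only [cdeg, Finsupp.sum] at hα
      omega
    haveI : Unique {α : Pt X →₀ ℕ // cdeg k α = 0} :=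
      ⟨⟨⟨0, Finsupp.sum_zero_index⟩⟩, fun α => Subtype.ext (hz α.1 α.2)⟩
    rw [Nat.card_unique, Nat.cast_one]
  · rw [PowerSeries.coeff_derivative, PowerSeries.coeff_mul]
    simp only [PowerSeries.coeff_mk]
    rw [mul_comm]
    exact_mod_cast effCount_rec k (X := X) n

variable [GeometricallyIrreducible (X ↘ Spec (CommRingCat.of k))] (hd : topologicalKrullDim X = 1)

variable (X) in
/-- The sum over the classes of a degree of the number of sections. -/
def csum (d : ℤ) : ℚ := ∑ᶠ c : PicD k X d, (Nat.card k : ℚ) ^ h k 0 (rep k c)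

include hd

theorem csum_eff (d : ℕ) :
    ((Nat.card k : ℚ) - 1) * effCount k X d = csum k X d - Nat.card (PicD k X (0 : ℤ)) := by
  haveI := finite_picD k hd (d : ℤ)
  haveI := Fintype.ofFinite (PicD k X (d : ℤ))
  have hfin : ∀ c : PicD k X (d : ℤ), Finite (Coh.structureModule X ⟶ rep k c) := fun c =>
    (card_hom k (rep_spec k c).2.1).1
  have hcard : ∀ c : PicD k X (d : ℤ),
      (Nat.card {φ : Coh.structureModule X ⟶ rep k c // φ ≠ 0} : ℚ) = (Nat.card k : ℚ) ^ h k 0 (rep k c) - 1 := by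
    intro c
    haveI := hfin c
    haveI := Fintype.ofFinite (Coh.structureModule X ⟶ rep k c)
    classical
    rw [Nat.card_eq_fintype_card, Fintype.card_subtype_compl, Fintype.card_subtype_eq,
      ← Nat.card_eq_fintype_card, (card_hom k (rep_spec k c).2.1).2,
      Nat.cast_sub (Nat.one_le_pow _ _ Nat.card_pos)]
    push_cast
    rfl
  have := hfin
  have h1 := congrArg (fun n : ℕ => (n : ℚ)) (card_sigma_hom k hd d)
  simp only [Nat.card_sigma, Nat.cast_sum, hcard, Finset.sum_sub_distrib, Finset.sum_const, Finset.card_univ,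
    nsmul_eq_mul, mul_one, Nat.cast_mul, Nat.cast_sub (Nat.one_le_iff_ne_zero.2 (Nat.card_pos (α := k)).ne'),
    Nat.cast_one] at h1
  rw [csum, finsum_eq_sum_of_fintype, card_picD_eq k hd 0 (d : ℤ),
    Nat.card_eq_fintype_card (α := PicD k X (d : ℤ)), mul_comm, ← h1]

theorem csum_neg {d : ℤ} (hd' : d < 0) : csum k X d = Nat.card (PicD k X (0 : ℤ)) := by
  haveI := finite_picD k hd d
  haveI := Fintype.ofFinite (PicD k X d)
  rw [csum, finsum_eq_sum_of_fintype, card_picD_eq k hd 0 d, Nat.card_eq_fintype_card (α := PicD k X d)]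
  refine (Finset.sum_congr rfl fun c _ => ?_).trans (by rw [Finset.sum_const, nsmul_eq_mul, mul_one, Finset.card_univ])
  have h0 : h k 0 (rep k c) = 0 := by
    by_contra hne
    have := Groth.L21.RR.deg_nonneg k hd.le (rep_spec k c).2.1
      (Groth.L21.Duality.nontrivial_of_h0_pos (k := k) (Nat.one_le_iff_ne_zero.2 hne))
    rw [(rep_spec k c).2.2] at this
    omega
  rw [h0, pow_zero]

/-- The functional equation for the sums over classes. -/
theorem csum_symm (d : ℤ) :
    csum k X d = (Nat.card k : ℚ) ^ (d + 1 - (Curv2.genus k X : ℤ)) *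
      csum k X (2 * (Curv2.genus k X : ℤ) - 2 - d) := by
  haveI := Groth.L21.RR.isNoetherian_of_proper (X := X) k
  set e := 2 * (Curv2.genus k X : ℤ) - 2 - d with he
  haveI := finite_picD k hd d
  haveI := finite_picD k hd e
  haveI := Fintype.ofFinite (PicD k X d)
  haveI := Fintype.ofFinite (PicD k X e)
  have h00 := h0_structure k hd (X := X)
  choose N hN hNe hN0 hN1 using fun c : PicD k X d =>
    Groth.L21.Duality.exists_dual (k := k) hd (rep_spec k c).2.1
  have hNd : ∀ c, Curv2.deg k X (N c) 1 = e := fun c => by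
    have h1 := Groth.L21.Duality.deg_congr (k := k) (hNe c).some
    rw [Groth.L21.Duality.deg_tensor (k := k) hd (hN c) (rep_spec k c).2.1, (rep_spec k c).2.2,
      (Groth.L21.Duality.omega_invariants (k := k) hd).2.2 h00] at h1
    omega
  let f : PicD k X d → PicD k X e := fun c => clD k (N c) (hN c) (hNd c)
  have hinj : Function.Injective f := fun c c' hh => by
    obtain ⟨θ⟩ := (PicGrp.cl_eq_cl_iff _ _).1 (congrArg Subtype.val hh)
    obtain ⟨N', hN', ⟨i⟩⟩ := Groth.L08.Cube.exists_inverse (hN c)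
    refine eq_of_iso k ⟨?_⟩
    exact (Groth.L00.Tensor.tensorUnitLeft _).symm ≪≫
      Groth.L00.Tensor.tensorIso (i.symm ≪≫ Groth.L00.Tensor.tensorComm _ _) (Iso.refl _) ≪≫
      Groth.L00.Tensor.tensorAssoc _ _ _ ≪≫
      Groth.L00.Tensor.tensorIso (Iso.refl N') ((hNe c).some ≪≫ (hNe c').some.symm ≪≫
        Groth.L00.Tensor.tensorIso θ.symm (Iso.refl _)) ≪≫ (Groth.L00.Tensor.tensorAssoc _ _ _).symm ≪≫
      Groth.L00.Tensor.tensorIso (Groth.L00.Tensor.tensorComm _ _ ≪≫ i) (Iso.refl _) ≪≫
      Groth.L00.Tensor.tensorUnitLeft _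
  have hbij : Function.Bijective f := (Fintype.bijective_iff_injective_and_card f).2
    ⟨hinj, by rw [← Nat.card_eq_fintype_card, ← Nat.card_eq_fintype_card, card_picD_eq k hd d e]⟩
  rw [csum, csum, finsum_eq_sum_of_fintype, finsum_eq_sum_of_fintype, ← hbij.sum_comp, Finset.mul_sum]
  refine Finset.sum_congr rfl fun c _ => ?_
  obtain ⟨i⟩ := nonempty_rep_clD k (N c) (hN c) (hNd c)
  have hq : (Nat.card k : ℚ) ≠ 0 := by exact_mod_cast (Nat.card_pos (α := k)).ne'
  rw [Groth.L21.RR.h_congr k i, hN0 c, ← zpow_natCast, ← zpow_natCast, ← zpow_add₀ hq]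
  congr 1
  have hr := Groth.L21.Duality.rr_deg (k := k) hd.le h00 (rep k c)
  rw [(rep_spec k c).2.2] at hr
  linarith

end Groth.L03.CurveCount
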